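import Cfsg.Agent.Coset.ON.Pres
import Cfsg.Agent.Coset.Chain

/-! Subgroups of `Cfsg.Spor.ON` given by free-group words. -/

set_option autoImplicit false
set_option maxRecDepth 100000

namespace CfsgLib.Coset.ON

open Cfsg.Spor

theorem mk_six : ((Subgroup.closure ({Cfsg.Spor.ON.a, Cfsg.Spor.ON.b, Cfsg.Spor.ON.c,
      Cfsg.Spor.ON.d, Cfsg.Spor.ON.e, Cfsg.Spor.ON.f} : Set (FreeGroup Cfsg.Spor.ON.Gen))).map
      (PresentedGroup.mk (coxRelators Cfsg.Spor.ON.edges ∪ {r | r ∈ Cfsg.Spor.ON.extra}))) =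
    genW Lg [[0], [1], [2], [3], [4], [5]] := by
  rw [MonoidHom.map_closure, show ([[0], [1], [2], [3], [4], [5]] : List (List Nat)) =
    [0, 1, 2, 3, 4, 5].map fun l => [l] from rfl, genW_singletons, genBy]
  congr 1
  ext x
  simp [lv, fl, Lg, eq_comm, PresentedGroup.of]

end CfsgLib.Coset.ON
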