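import Cfsg.Agent.Coset.ON.Index
import Cfsg.Agent.Coset.ON.Col
import Cfsg.Agent.Coset.Simple
import Cfsg.Prelude.Def_Sporadic

/-! Simplicity of `Cfsg.Spor.ON`. -/

set_option autoImplicit false
set_option maxRecDepth 100000
set_option Elab.async false

namespace CfsgLib.Coset.ON

/-- The starting positions of the suborbits. -/
def starts : Fin 4 → Nat := ![0, 58653, 110789, 116375]

/-- The sizes of the suborbits. -/
def sizes : Fin 4 → Nat := ![58653, 52136, 5586, 6384]

/-- A listed point. -/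
noncomputable def covPt (j : Fin 122759) : Fin 122760 :=
  ⟨opt Cov.SP j.val, (Cov.cov_spec j.isLt).1⟩

theorem covPt_injective : Function.Injective covPt := fun a b h => by
  have h' : opt Cov.SP a.val = opt Cov.SP b.val := congrArg Fin.val h
  exact Fin.ext (by rw [← (Cov.cov_spec a.isLt).2.2.1, h', (Cov.cov_spec b.isLt).2.2.1])

theorem seg (j : Nat) (hj : j < 122759) : ∃ k : Fin 4, Cov.start j = starts k ∧
    starts k ≤ j ∧ j < starts k + sizes k := by
  have hb : ∀ c, Nat.ble c j = decide (c ≤ j) := fun c => by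
    by_cases h : c ≤ j <;> simp [h, Nat.not_le.mp, Bool.eq_false_iff, Nat.ble_eq]
  simp only [Cov.start, hb]
  by_cases h3 : 116375 ≤ j
  · exact ⟨3, by simp [h3, starts], by simpa [starts] using h3, by simp [starts, sizes]; omega⟩
  by_cases h2 : 110789 ≤ j
  · exact ⟨2, by simp [h3, h2, starts], by simpa [starts] using h2, by simp [starts, sizes]; omega⟩
  by_cases h1 : 58653 ≤ j
  · exact ⟨1, by simp [h3, h2, h1, starts], by simpa [starts] using h1,
      by simp [starts, sizes]; omega⟩
  · exact ⟨0, by simp [h3, h2, h1, starts], by simp [starts], by simp [starts, sizes]; omega⟩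

theorem seg_unique {j : Nat} {k k' : Fin 4} (h : starts k ≤ j) (h' : j < starts k + sizes k)
    (g : starts k' ≤ j) (g' : j < starts k' + sizes k') : k = k' := by
  fin_cases k <;> fin_cases k' <;> simp_all [starts, sizes] <;> omega

theorem starts_lt (k : Fin 4) : starts k < 122759 := by fin_cases k <;> decide

theorem fl_mem_pstab {l : Nat} (hl : l < 6) : fl Lg l ∈ pstab ρ ⟨0, by decide⟩ := by
  rw [← index_and_eq.2, H_eq_genBy]
  have h : ev Lg [l] = fl Lg l := by simp
  rw [← h]
  refine ev_mem_genBy _ fun x hx => ?_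
  rw [List.mem_singleton.mp hx]
  interval_cases l <;> simp

theorem reach : ∀ j : Nat, (hj : j < 122759) → ∀ k : Fin 4, starts k ≤ j → j < starts k + sizes k →
    ∃ h ∈ pstab ρ ⟨0, by decide⟩, ρ h (covPt ⟨starts k, starts_lt k⟩) = covPt ⟨j, hj⟩ := by
  intro j
  induction j using Nat.strong_induction_on with
  | _ j ih =>
    intro hj k hk hk'
    obtain ⟨-, -, -, hs⟩ := Cov.cov_spec hj
    obtain ⟨k', he, hle, hlt⟩ := seg j hj
    obtain rfl := seg_unique hk hk' hle hlt
    rw [he] at hs
    rcases hs with hs | ⟨hp0, hp, hl, ht⟩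
    · subst hs
      exact ⟨1, one_mem _, by simp⟩
    · obtain ⟨h, hh, hhe⟩ := ih _ hp (by omega) k hp0 (by omega)
      generalize hgl : field (Cov.SP j) 2 = l at hl ht
      have hL : l < Lg.length := by rw [len_Lg]; omega
      refine ⟨(fl Lg l)⁻¹ * h, mul_mem (inv_mem (fl_mem_pstab hl)) hh, ?_⟩
      rw [map_mul, Equiv.Perm.mul_apply, hhe, map_inv]
      exact Fin.ext ((matches_ρ l hL _).trans ht)

theorem pstab_coatom : IsCoatom (pstab ρ (⟨0, by decide⟩ : Fin 122760)) := by
  let A : Fin 4 → Set (Fin 122760) := fun k =>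
    covPt '' {j | starts k ≤ j.val ∧ j.val < starts k + sizes k}
  have hA : ∀ k, (A k).ncard = sizes k := by
    intro k
    rw [Set.ncard_image_of_injective _ covPt_injective]
    have e : {j : Fin 122759 | starts k ≤ j.val ∧ j.val < starts k + sizes k} =
        Set.range (fun t : Fin (sizes k) => (⟨starts k + t.val, by
          have := t.isLt
          have : starts k + sizes k ≤ 122759 := by fin_cases k <;> simp [starts, sizes]
          omega⟩ : Fin 122759)) := by
      ext j
      constructor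
      · rintro ⟨a, b⟩
        exact ⟨⟨j.val - starts k, by omega⟩, Fin.ext (by simp; omega)⟩
      · rintro ⟨t, rfl⟩
        exact ⟨by simp, by simp⟩
    rw [e, Set.ncard_range_of_injective (fun a b h => by
      have := congrArg Fin.val h
      exact Fin.ext (by simpa using this)), Nat.card_fin]
  refine pstab_isCoatom (by decide) transitive A ?_ ?_ ?_ ?_
  · rintro k x ⟨a, ⟨ha, ha'⟩, rfl⟩ y ⟨b, ⟨hb, hb'⟩, rfl⟩
    obtain ⟨g, hg, hge⟩ := reach a.val a.isLt k ha ha'
    obtain ⟨h, hh, hhe⟩ := reach b.val b.isLt k hb hb'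
    refine ⟨h * g⁻¹, mul_mem hh (inv_mem hg), ?_⟩
    rw [map_mul, map_inv, Equiv.Perm.mul_apply]
    show ρ h ((ρ g)⁻¹ (covPt ⟨a.val, a.isLt⟩)) = covPt ⟨b.val, b.isLt⟩
    rw [← hge, Equiv.Perm.inv_def, Equiv.symm_apply_apply, hhe]
  · intro i hi
    have hsurj : ∀ i : Fin 122760, i.val ≠ 0 → ∃ j, covPt j = i := by
      have hne : ∀ j, covPt j ∈ ({(0 : Fin 122760)}ᶜ : Set (Fin 122760)) := fun j h =>
        (Cov.cov_spec j.isLt).2.1 (congrArg Fin.val (Set.mem_singleton_iff.mp h))
      have he : Set.range covPt = ({(0 : Fin 122760)}ᶜ : Set (Fin 122760)) := by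
        refine Set.eq_of_subset_of_ncard_le (Set.range_subset_iff.mpr hne) ?_ (Set.toFinite _)
        rw [Set.ncard_range_of_injective covPt_injective, Set.ncard_compl, Set.ncard_singleton,
          Nat.card_fin, Nat.card_fin]
      intro i hi
      have : i ∈ ({(0 : Fin 122760)}ᶜ : Set (Fin 122760)) := fun h =>
        hi (by rw [Set.mem_singleton_iff.mp h]; rfl)
      rw [← he] at this
      exact this
    obtain ⟨j, rfl⟩ := hsurj i hi
    obtain ⟨k, -, a, b⟩ := seg j.val j.isLt
    exact ⟨k, j, ⟨a, b⟩, rfl⟩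
  · simp only [hA, Fin.sum_univ_four]
    rfl
  · simp only [hA]
    decide +kernel

/-- A word of order eleven. -/
def u : List Nat := [1, 2, 3, 4, 6]

theorem u_pow : ev Lg u ^ 11 ^ 1 = 1 := by
  rw [pow_one, pow_ev]
  exact matches_ρ.ev_eq_of_base card_H.2 (w := []) (len_Lg.symm ▸ by decide +kernel) rfl
    (by decide +kernel)

theorem collapse (N : Subgroup Cfsg.Spor.ON) [N.Normal] (hu : ev Lg u ∈ N) : N = ⊤ := by
  refine eq_top_of_collapse closure_Lg N hu fun L' hlen hL h1 => ?_
  have hl : L'.length = 8 := hlen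
  have hr : ∀ w ∈ Col.crels, ev L' w = 1 := by
    intro w hw
    rcases List.mem_append.mp hw with hw | hw
    · rw [hL, ev_rels w hw, map_one]
    · rw [List.mem_singleton.mp hw]; exact h1
  have hinv : ∀ x, fl L' (iv x) = (fl L' x)⁻¹ := by
    intro x
    refine eq_inv_of_mul_eq_one_left ?_
    have := hL [iv x, x]
    simp only [ev_cons, ev_nil, mul_one, inv_Lg, inv_mul_cancel, map_one] at this
    exact this
  have hsub : ∀ w ∈ Col.subs, ev L' w ∈ (⊥ : Subgroup (Cfsg.Spor.ON ⧸ N)) := by
    intro w hw; simp [Col.subs] at hw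
  exact all_one_of_table' hinv (tableOK_of_check hinv Col.hR (hl.symm ▸ Col.hdefs)
    (hl.symm ▸ Col.hsteps) (hl.symm ▸ Col.htable) hr hsub)
where
  all_one_of_table' {K : Type} [Group K] {L : List K} {E Rep Tb : Nat → Nat}
      (_ : ∀ x, fl L (iv x) = (fl L x)⁻¹) (h : TableOK L (⊥ : Subgroup K) E iv 1 Rep Tb) :
      ∀ x ∈ L, x = 1 := by
    intro x hx
    obtain ⟨l, hl, rfl⟩ := List.getElem_of_mem hx
    have hs := h.step 0 (by norm_num) l hl
    have h0 : tget Tb 0 l = 0 := by have := h.lt 0 (by norm_num) l hl; omega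
    rw [h0, h.zero, rp_zero, one_mul, inv_one, mul_one, Subgroup.mem_bot, fl,
      List.getD_eq_getElem _ _ hl] at hs
    exact hs

theorem isSimple : IsSimpleGroup Cfsg.Spor.ON := by
  have := card_ON.1
  have : Fact (Nat.Prime 11) := ⟨by norm_num⟩
  refine isSimpleGroup_of_action (by decide) ρ_injective transitive pstab_coatom
    (p := 11) (a := 1) (by norm_num) ?_ (ev Lg u) u_pow fun N hN hu => ?_
  · rw [card_ON.2]; norm_num
  · exact @collapse N hN hu

theorem isON : Cfsg.IsON Cfsg.Spor.ON := ⟨isSimple, card_ON.2⟩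

end CfsgLib.Coset.ON
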