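/-! Words in the letters of `Cfsg.Spor.ON` for the generators of two subgroups. -/

set_option autoImplicit false

namespace CfsgLib.Coset.ON

/-- The four involutions of the subgroup. -/
def j1Words : List (List Nat) :=
  [[0],
   [6, 1, 4, 2, 7, 0, 4, 0, 1, 7, 2, 3, 6, 0, 3, 2, 3, 0, 7, 0, 5, 3, 5, 7, 4, 3, 4, 2, 0, 5, 0, 6, 5, 4, 3, 7, 1, 6, 2, 4, 3, 4, 2, 0, 4, 1, 0, 4, 0, 2, 4, 3, 4, 2, 7, 1, 6, 3, 4, 5, 7, 0, 5, 0, 2, 4, 3, 4, 6, 5, 3, 5, 0, 6, 0, 3, 2, 3, 0, 7, 3, 2, 6, 1, 0, 4, 0, 6, 2, 4, 1, 7, 0, 6, 1, 4, 2, 7, 0, 4, 0, 1, 7, 2, 3, 6, 0, 3, 2, 3, 0, 7, 0, 5, 3, 5, 7, 4, 3, 4, 2, 0, 5, 0, 6, 5,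 4, 3, 7, 1, 6, 2, 4, 3, 4, 2, 0, 4, 0, 1, 4, 0, 2, 4, 3, 4, 2, 7, 1, 6, 3, 4, 5, 7, 0, 5, 0, 2, 4, 3, 4, 6, 5, 3, 5, 0, 6, 0, 3, 2, 3, 0, 7, 3, 2, 6, 1, 0, 4, 0, 6, 2, 4, 1, 7, 0, 6, 1, 4, 2, 7, 0, 4, 0, 1, 7, 2, 3, 6, 0, 3, 2, 3, 0, 7, 0, 5, 3, 5, 7, 4, 3, 4, 2, 0, 5, 0, 6, 5, 4, 3, 7, 1, 6, 2, 4, 3, 4, 2, 0, 4, 1, 0, 4, 0, 2, 4, 3, 4, 2, 7, 1, 6, 3, 4, 5, 7, 0, 5, 0, 2, 4, 3, 4, 6, 5, 3, 5, 0, 6, 0, 3, 2, 3, 0, 7, 3, 2, 6, 1, 0, 4, 0, 6, 2, 4, 1, 7, 0, 6, 1, 4, 2, 7, 0, 4, 0, 1, 7, 2, 3, 6, 0, 3, 2, 3, 0, 7, 0, 5, 3, 5, 7, 4, 3, 4, 2, 0, 5, 0, 6, 5, 4, 3, 7, 1, 6, 2, 4, 3, 4, 2, 0, 4, 1, 0, 4, 0, 2,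 4, 3, 4, 2, 7, 1, 6, 3, 4, 5, 7, 0, 5, 0, 2, 4, 3, 4, 6, 5, 3, 5, 0, 6, 0, 3, 2, 3, 0, 7, 3, 2, 6, 1, 0, 4, 0, 6, 2, 4, 1, 7, 0, 6, 1, 4, 2, 7, 0, 4, 0, 1, 7, 2, 3, 6, 0, 3, 2, 3, 0, 7, 0, 5, 3, 5, 7, 4, 3, 4, 2, 0, 5, 0, 6, 5, 4, 3, 7, 1, 6, 2, 4, 3, 4, 2, 0, 4, 0, 1, 4, 0, 2, 4, 3, 4, 2, 7, 1, 6, 3, 4, 5, 7, 0, 5, 0, 2, 4, 3, 4, 6, 5, 3, 5, 0, 6, 0, 3, 2, 3, 0, 7, 3, 2, 6, 1, 0, 4, 0, 6, 2, 4, 1, 7, 0, 6, 1, 4, 2, 7, 0, 4, 0, 1, 7, 2, 3, 6, 0, 3, 2, 3, 0, 7, 0, 5, 3, 5, 7, 4, 3, 4, 2, 0, 5, 0, 6, 5, 4, 3, 7, 1, 6, 2, 4, 3, 4, 2, 0, 4, 1, 0, 4, 0, 2, 4, 3, 4, 2, 7, 1, 6, 3, 4, 5, 7, 0, 5, 0, 2, 4, 3,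 4, 6, 5, 3, 5, 0, 6, 0, 3, 2, 3, 0, 7, 3, 2, 6, 1, 0, 4, 0, 6, 2, 4, 1, 7, 0, 6, 1, 4, 2, 7, 0, 4, 0, 1, 7, 2, 3, 6, 0, 3, 2, 3, 0, 7, 0, 5, 3, 5, 7, 4, 3, 4, 2, 0, 5, 0, 6, 5, 4, 3, 7, 1, 6, 2, 4, 3, 4, 2, 0, 4, 0, 1, 4, 0, 2, 4, 3, 4, 2, 7, 1, 6, 3, 4, 5, 7, 0, 5, 0, 2, 4, 3, 4, 6, 5, 3, 5, 0, 6, 0, 3, 2, 3, 0, 7, 3, 2, 6, 1, 0, 4, 0, 6, 2, 4, 1, 7, 0, 6, 1, 4, 2, 7, 0, 4, 0, 1, 7, 2, 3, 6, 0, 3, 2, 3, 0, 7, 0, 5, 3, 5, 7, 4, 3, 4, 2, 0, 5, 0, 6, 5, 4, 3, 7, 1, 6, 2, 4, 3, 4, 2, 0, 4, 1, 0, 4, 0, 2, 4, 3, 4, 2, 7, 1, 6, 3, 4, 5, 7, 0, 5, 0, 2, 4, 3, 4, 6, 5, 3, 5, 0, 6, 0, 3, 2, 3, 0, 7, 3, 2, 6, 1,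 0, 4, 0, 6, 2, 4, 1, 7, 0, 6, 1, 4, 2, 7, 0, 4, 0, 1, 7, 2, 3, 6, 0, 3, 2, 3, 0, 7, 0, 5, 3, 5, 7, 4, 3, 4, 2, 0, 5, 0, 6, 5, 4, 3, 7, 1, 6, 2, 4, 3, 4, 2, 0, 4, 0, 1, 4, 0, 2, 4, 3, 4, 2, 7, 1, 6, 3, 4, 5, 7, 0, 5, 0, 2, 4, 3, 4, 6, 5, 3, 5, 0, 6, 0, 3, 2, 3, 0, 7, 3, 2, 6, 1, 0, 4, 0, 6, 2, 4, 1, 7, 0, 6, 1, 4, 2, 7, 0, 4, 0, 1, 7, 2, 3, 6, 0, 3, 2, 3, 0, 7, 0, 5, 3, 5, 7, 4, 3, 4, 2, 0, 5, 0, 6, 5, 4, 3, 7, 1, 6, 2, 4, 3, 4, 2, 0, 4, 0, 1, 4, 0, 2, 4, 3, 4, 2, 7, 1, 6, 3, 4, 5, 7, 0, 5, 0, 2, 4, 3, 4, 6, 5, 3, 5, 0, 6, 0, 3, 2, 3, 0, 7, 3, 2, 6, 1, 0, 4, 0, 6, 2, 4, 1, 7, 0, 6, 1, 4, 2, 7, 0, 4, 0,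 1, 7, 2, 3, 6, 0, 3, 2, 3, 0, 7, 0, 5, 3, 5, 7, 4, 3, 4, 2, 0, 5, 0, 6, 5, 4, 3, 7, 1, 6, 2, 4, 3, 4, 2, 0, 4, 1, 0, 4, 0, 2, 4, 3, 4, 2, 7, 1, 6, 3, 4, 5, 7, 0, 5, 0, 2, 4, 3, 4, 6, 5, 3, 5, 0, 6, 0, 3, 2, 3, 0, 7, 3, 2, 6, 1, 0, 4, 0, 6, 2, 4, 1, 7, 0, 6, 1, 4, 2, 7, 0, 4, 0, 1, 7, 2, 3, 6, 0, 3, 2, 3, 0, 7, 0, 5, 3, 5, 7, 4, 3, 4, 2, 0, 5, 0, 6, 5, 4, 3, 7, 1, 6, 2, 4, 3, 4, 2, 0, 4, 0, 1, 4, 0, 2, 4, 3, 4, 2, 7, 1, 6, 3, 4, 5, 7, 0, 5, 0, 2, 4, 3, 4, 6, 5, 3, 5, 0, 6, 0, 3, 2, 3, 0, 7, 3, 2, 6, 1, 0, 4, 0, 6, 2, 4, 1, 7],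
   [6, 1, 4, 2, 7, 0, 4, 0, 1, 7, 2, 3, 6, 0, 3, 2, 3, 0, 7, 0, 5, 3, 5, 7, 4, 3, 4, 2, 0, 5, 0, 6, 5, 4, 3, 7, 1, 6, 2, 4, 3, 4, 2, 0, 4, 1, 0, 4, 0, 2, 4, 3, 4, 2, 7, 1, 6, 3, 4, 5, 7, 0, 5, 0, 2, 4, 3, 4, 6, 5, 3, 5, 0, 6, 0, 3, 2, 3, 0, 7, 3, 2, 6, 1, 0, 4, 0, 6, 2, 4, 1, 7, 0, 6, 1, 4, 2, 7, 0, 4, 0, 1, 7, 2, 3, 6, 0, 3, 2, 3, 0, 7, 0, 5, 3, 5, 7, 4, 3, 4, 2, 0, 5, 0, 6, 5, 4, 3, 7, 1, 6, 2, 4, 3, 4, 2, 0, 4, 1, 0, 4, 0, 2, 4, 3, 4, 2, 7, 1, 6, 3, 4, 5, 7, 0, 5, 0, 2, 4, 3, 4, 6, 5, 3, 5, 0, 6, 0, 3, 2, 3, 0, 7, 3, 2, 6, 1, 0, 4, 0, 6, 2, 4, 1, 7, 0, 6, 1, 4, 2, 7, 0, 4, 0, 1, 7, 2, 3, 6, 0, 3, 2,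 3, 0, 7, 0, 5, 3, 5, 7, 4, 3, 4, 2, 0, 5, 0, 6, 5, 4, 3, 7, 1, 6, 2, 4, 3, 4, 2, 0, 4, 0, 1, 4, 0, 2, 4, 3, 4, 2, 7, 1, 6, 3, 4, 5, 7, 0, 5, 0, 2, 4, 3, 4, 6, 5, 3, 5, 0, 6, 0, 3, 2, 3, 0, 7, 3, 2, 6, 1, 0, 4, 0, 6, 2, 4, 1, 7, 0, 6, 1, 4, 2, 7, 0, 4, 0, 1, 7, 2, 3, 6, 0, 3, 2, 3, 0, 7, 0, 5, 3, 5, 7, 4, 3, 4, 2, 0, 5, 0, 6, 5, 4, 3, 7, 1, 6, 2, 4, 3, 4, 2, 0, 4, 0, 1, 4, 0, 2, 4, 3, 4, 2, 7, 1, 6, 3, 4, 5, 7, 0, 5, 0, 2, 4, 3, 4, 6, 5, 3, 5, 0, 6, 0, 3, 2, 3, 0, 7, 3, 2, 6, 1, 0, 4, 0, 6, 2, 4, 1, 7, 0, 6, 1, 4, 2, 7, 0, 4, 0, 1, 7, 2, 3, 6, 0, 3, 2, 3, 0, 7, 0, 5, 3, 5, 7, 4, 3, 4, 2, 0, 5, 0, 6, 5,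 4, 3, 7, 1, 6, 2, 4, 3, 4, 2, 0, 4, 1, 0, 4, 0, 2, 4, 3, 4, 2, 7, 1, 6, 3, 4, 5, 7, 0, 5, 0, 2, 4, 3, 4, 6, 5, 3, 5, 0, 6, 0, 3, 2, 3, 0, 7, 3, 2, 6, 1, 0, 4, 0, 6, 2, 4, 1, 7, 0, 6, 1, 4, 2, 7, 0, 4, 0, 1, 7, 2, 3, 6, 0, 3, 2, 3, 0, 7, 0, 5, 3, 5, 7, 4, 3, 4, 2, 0, 5, 0, 6, 5, 4, 3, 7, 1, 6, 2, 4, 3, 4, 2, 0, 4, 1, 0, 4, 0, 2, 4, 3, 4, 2, 7, 1, 6, 3, 4, 5, 7, 0, 5, 0, 2, 4, 3, 4, 6, 5, 3, 5, 0, 6, 0, 3, 2, 3, 0, 7, 3, 2, 6, 1, 0, 4, 0, 6, 2, 4, 1, 7, 0, 6, 1, 4, 2, 7, 0, 4, 0, 1, 7, 2, 3, 6, 0, 3, 2, 3, 0, 7, 0, 5, 3, 5, 7, 4, 3, 4, 2, 0, 5, 0, 6, 5, 4, 3, 7, 1, 6, 2, 4, 3, 4, 2, 0, 4, 0, 1, 4, 0, 2,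 4, 3, 4, 2, 7, 1, 6, 3, 4, 5, 7, 0, 5, 0, 2, 4, 3, 4, 6, 5, 3, 5, 0, 6, 0, 3, 2, 3, 0, 7, 3, 2, 6, 1, 0, 4, 0, 6, 2, 4, 1, 7, 0, 6, 1, 4, 2, 7, 0, 4, 0, 1, 7, 2, 3, 6, 0, 3, 2, 3, 0, 7, 0, 5, 3, 5, 7, 4, 3, 4, 2, 0, 5, 0, 6, 5, 4, 3, 7, 1, 6, 2, 4, 3, 4, 2, 0, 4, 1, 0, 4, 0, 2, 4, 3, 4, 2, 7, 1, 6, 3, 4, 5, 7, 0, 5, 0, 2, 4, 3, 4, 6, 5, 3, 5, 0, 6, 0, 3, 2, 3, 0, 7, 3, 2, 6, 1, 0, 4, 0, 6, 2, 4, 1, 7, 0, 6, 1, 4, 2, 7, 0, 4, 0, 1, 7, 2, 3, 6, 0, 3, 2, 3, 0, 7, 0, 5, 3, 5, 7, 4, 3, 4, 2, 0, 5, 0, 6, 5, 4, 3, 7, 1, 6, 2, 4, 3, 4, 2, 0, 4, 1, 0, 4, 0, 2, 4, 3, 4, 2, 7, 1, 6, 3, 4, 5, 7, 0, 5, 0, 2, 4, 3,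 4, 6, 5, 3, 5, 0, 6, 0, 3, 2, 3, 0, 7, 3, 2, 6, 1, 0, 4, 0, 6, 2, 4, 1, 7, 0, 6, 1, 4, 2, 7, 0, 4, 0, 1, 7, 2, 3, 6, 0, 3, 2, 3, 0, 7, 0, 5, 3, 5, 7, 4, 3, 4, 2, 0, 5, 0, 6, 5, 4, 3, 7, 1, 6, 2, 4, 3, 4, 2, 0, 4, 0, 1, 4, 0, 2, 4, 3, 4, 2, 7, 1, 6, 3, 4, 5, 7, 0, 5, 0, 2, 4, 3, 4, 6, 5, 3, 5, 0, 6, 0, 3, 2, 3, 0, 7, 3, 2, 6, 1, 0, 4, 0, 6, 2, 4, 1, 7, 0, 6, 1, 4, 2, 7, 0, 4, 0, 1, 7, 2, 3, 6, 0, 3, 2, 3, 0, 7, 0, 5, 3, 5, 7, 4, 3, 4, 2, 0, 5, 0, 6, 5, 4, 3, 7, 1, 6, 2, 4, 3, 4, 2, 0, 4, 1, 0, 4, 0, 2, 4, 3, 4, 2, 7, 1, 6, 3, 4, 5, 7, 0, 5, 0, 2, 4, 3, 4, 6, 5, 3, 5, 0, 6, 0, 3, 2, 3, 0, 7, 3, 2, 6, 1,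 0, 4, 0, 6, 2, 4, 1, 7, 0, 6, 1, 4, 2, 7, 0, 4, 0, 1, 7, 2, 3, 6, 0, 3, 2, 3, 0, 7, 0, 5, 3, 5, 7, 4, 3, 4, 2, 0, 5, 0, 6, 5, 4, 3, 7, 1, 6, 2, 4, 3, 4, 2, 0, 4, 0, 1, 4, 0, 2, 4, 3, 4, 2, 7, 1, 6, 3, 4, 5, 7, 0, 5, 0, 2, 4, 3, 4, 6, 5, 3, 5, 0, 6, 0, 3, 2, 3, 0, 7, 3, 2, 6, 1, 0, 4, 0, 6, 2, 4, 1, 7, 0, 6, 1, 4, 2, 7, 0, 4, 0, 1, 7, 2, 3, 6, 0, 3, 2, 3, 0, 7, 0, 5, 3, 5, 7, 4, 3, 4, 2, 0, 5, 0, 6, 5, 4, 3, 7, 1, 6, 2, 4, 3, 4, 2, 0, 4, 0, 1, 4, 0, 2, 4, 3, 4, 2, 7, 1, 6, 3, 4, 5, 7, 0, 5, 0, 2, 4, 3, 4, 6, 5, 3, 5, 0, 6, 0, 3, 2, 3, 0, 7, 3, 2, 6, 1, 0, 4, 0, 6, 2, 4, 1, 7],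
   [0, 6, 1, 4, 2, 7, 0, 4, 0, 1, 7, 2, 3, 6, 0, 3, 2, 3, 0, 7, 0, 5, 3, 5, 7, 4, 3, 4, 2, 0, 5, 0, 6, 5, 4, 3, 7, 1, 6, 2, 4, 3, 4, 2, 0, 4, 1, 0, 4, 0, 2, 4, 3, 4, 2, 7, 1, 6, 3, 4, 5, 7, 0, 5, 0, 2, 4, 3, 4, 6, 5, 3, 5, 0, 6, 0, 3, 2, 3, 0, 7, 3, 2, 6, 1, 0, 4, 0, 6, 2, 4, 1, 7, 0, 6, 1, 4, 2, 7, 0, 4, 0, 1, 7, 2, 3, 6, 0, 3, 2, 3, 0, 7, 0, 5, 3, 5, 7, 4, 3, 4, 2, 0, 5, 0, 6, 5, 4, 3, 7, 1, 6, 2, 4, 3, 4, 2, 0, 4, 0, 1, 4, 0, 2, 4, 3, 4, 2, 7, 1, 6, 3, 4, 5, 7, 0, 5, 0, 2, 4, 3, 4, 6, 5, 3, 5, 0, 6, 0, 3, 2, 3, 0, 7, 3, 2, 6, 1, 0, 4, 0, 6, 2, 4, 1, 7, 0, 6, 1, 4, 2, 7, 0, 4, 0, 1, 7, 2, 3, 6, 0, 3,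 2, 3, 0, 7, 0, 5, 3, 5, 7, 4, 3, 4, 2, 0, 5, 0, 6, 5, 4, 3, 7, 1, 6, 2, 4, 3, 4, 2, 0, 4, 1, 0, 4, 0, 2, 4, 3, 4, 2, 7, 1, 6, 3, 4, 5, 7, 0, 5, 0, 2, 4, 3, 4, 6, 5, 3, 5, 0, 6, 0, 3, 2, 3, 0, 7, 3, 2, 6, 1, 0, 4, 0, 6, 2, 4, 1, 7, 0, 6, 1, 4, 2, 7, 0, 4, 0, 1, 7, 2, 3, 6, 0, 3, 2, 3, 0, 7, 0, 5, 3, 5, 7, 4, 3, 4, 2, 0, 5, 0, 6, 5, 4, 3, 7, 1, 6, 2, 4, 3, 4, 2, 0, 4, 0, 1, 4, 0, 2, 4, 3, 4, 2, 7, 1, 6, 3, 4, 5, 7, 0, 5, 0, 2, 4, 3, 4, 6, 5, 3, 5, 0, 6, 0, 3, 2, 3, 0, 7, 3, 2, 6, 1, 0, 4, 0, 6, 2, 4, 1, 7, 0, 6, 1, 4, 2, 7, 0, 4, 0, 1, 7, 2, 3, 6, 0, 3, 2, 3, 0, 7, 0, 5, 3, 5, 7, 4, 3, 4, 2, 0, 5, 0, 6,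 5, 4, 3, 7, 1, 6, 2, 4, 3, 4, 2, 0, 4, 0, 1, 4, 0, 2, 4, 3, 4, 2, 7, 1, 6, 3, 4, 5, 7, 0, 5, 0, 2, 4, 3, 4, 6, 5, 3, 5, 0, 6, 0, 3, 2, 3, 0, 7, 3, 2, 6, 1, 0, 4, 0, 6, 2, 4, 1, 7, 0, 6, 1, 4, 2, 7, 0, 4, 0, 1, 7, 2, 3, 6, 0, 3, 2, 3, 0, 7, 0, 5, 3, 5, 7, 4, 3, 4, 2, 0, 5, 0, 6, 5, 4, 3, 7, 1, 6, 2, 4, 3, 4, 2, 0, 4, 1, 0, 4, 0, 2, 4, 3, 4, 2, 7, 1, 6, 3, 4, 5, 7, 0, 5, 0, 2, 4, 3, 4, 6, 5, 3, 5, 0, 6, 0, 3, 2, 3, 0, 7, 3, 2, 6, 1, 0, 4, 0, 6, 2, 4, 1, 7, 0, 6, 1, 4, 2, 7, 0, 4, 0, 1, 7, 2, 3, 6, 0, 3, 2, 3, 0, 7, 0, 5, 3, 5, 7, 4, 3, 4, 2, 0, 5, 0, 6, 5, 4, 3, 7, 1, 6, 2, 4, 3, 4, 2, 0, 4, 0, 1, 4, 0,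 2, 4, 3, 4, 2, 7, 1, 6, 3, 4, 5, 7, 0, 5, 0, 2, 4, 3, 4, 6, 5, 3, 5, 0, 6, 0, 3, 2, 3, 0, 7, 3, 2, 6, 1, 0, 4, 0, 6, 2, 4, 1, 7, 0, 6, 1, 4, 2, 7, 0, 4, 0, 1, 7, 2, 3, 6, 0, 3, 2, 3, 0, 7, 0, 5, 3, 5, 7, 4, 3, 4, 2, 0, 5, 0, 6, 5, 4, 3, 7, 1, 6, 2, 4, 3, 4, 2, 0, 4, 1, 0, 4, 0, 2, 4, 3, 4, 2, 7, 1, 6, 3, 4, 5, 7, 0, 5, 0, 2, 4, 3, 4, 6, 5, 3, 5, 0, 6, 0, 3, 2, 3, 0, 7, 3, 2, 6, 1, 0, 4, 0, 6, 2, 4, 1, 7, 0, 6, 1, 4, 2, 7, 0, 4, 0, 1, 7, 2, 3, 6, 0, 3, 2, 3, 0, 7, 0, 5, 3, 5, 7, 4, 3, 4, 2, 0, 5, 0, 6, 5, 4, 3, 7, 1, 6, 2, 4, 3, 4, 2, 0, 4, 0, 1, 4, 0, 2, 4, 3, 4, 2, 7, 1, 6, 3, 4, 5, 7, 0, 5, 0, 2, 4,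 3, 4, 6, 5, 3, 5, 0, 6, 0, 3, 2, 3, 0, 7, 3, 2, 6, 1, 0, 4, 0, 6, 2, 4, 1, 7, 0, 6, 1, 4, 2, 7, 0, 4, 0, 1, 7, 2, 3, 6, 0, 3, 2, 3, 0, 7, 0, 5, 3, 5, 7, 4, 3, 4, 2, 0, 5, 0, 6, 5, 4, 3, 7, 1, 6, 2, 4, 3, 4, 2, 0, 4, 1, 0, 4, 0, 2, 4, 3, 4, 2, 7, 1, 6, 3, 4, 5, 7, 0, 5, 0, 2, 4, 3, 4, 6, 5, 3, 5, 0, 6, 0, 3, 2, 3, 0, 7, 3, 2, 6, 1, 0, 4, 0, 6, 2, 4, 1, 7, 0, 6, 1, 4, 2, 7, 0, 4, 0, 1, 7, 2, 3, 6, 0, 3, 2, 3, 0, 7, 0, 5, 3, 5, 7, 4, 3, 4, 2, 0, 5, 0, 6, 5, 4, 3, 7, 1, 6, 2, 4, 3, 4, 2, 0, 4, 0, 1, 4, 0, 2, 4, 3, 4, 2, 7, 1, 6, 3, 4, 5, 7, 0, 5, 0, 2, 4, 3, 4, 6, 5, 3, 5, 0, 6, 0, 3, 2, 3, 0, 7, 3, 2, 6,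 1, 0, 4, 0, 6, 2, 4, 1, 7, 0, 6, 1, 4, 2, 7, 0, 4, 0, 1, 7, 2, 3, 6, 0, 3, 2, 3, 0, 7, 0, 5, 3, 5, 7, 4, 3, 4, 2, 0, 5, 0, 6, 5, 4, 3, 7, 1, 6, 2, 4, 3, 4, 2, 0, 4, 1, 0, 4, 0, 2, 4, 3, 4, 2, 7, 1, 6, 3, 4, 5, 7, 0, 5, 0, 2, 4, 3, 4, 6, 5, 3, 5, 0, 6, 0, 3, 2, 3, 0, 7, 3, 2, 6, 1, 0, 4, 0, 6, 2, 4, 1, 7, 0, 6, 1, 4, 2, 7, 0, 4, 0, 1, 7, 2, 3, 6, 0, 3, 2, 3, 0, 7, 0, 5, 3, 5, 7, 4, 3, 4, 2, 0, 5, 0, 6, 5, 4, 3, 7, 1, 6, 2, 4, 3, 4, 2, 0, 4, 1, 0, 4, 0, 2, 4, 3, 4, 2, 7, 1, 6, 3, 4, 5, 7, 0, 5, 0, 2, 4, 3, 4, 6, 5, 3, 5, 0, 6, 0, 3, 2, 3, 0, 7, 3, 2, 6, 1, 0, 4, 0, 6, 2, 4, 1, 7, 0, 6, 1, 4, 2, 7, 0, 4,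 0, 1, 7, 2, 3, 6, 0, 3, 2, 3, 0, 7, 0, 5, 3, 5, 7, 4, 3, 4, 2, 0, 5, 0, 6, 5, 4, 3, 7, 1, 6, 2, 4, 3, 4, 2, 0, 4, 0, 1, 4, 0, 2, 4, 3, 4, 2, 7, 1, 6, 3, 4, 5, 7, 0, 5, 0, 2, 4, 3, 4, 6, 5, 3, 5, 0, 6, 0, 3, 2, 3, 0, 7, 3, 2, 6, 1, 0, 4, 0, 6, 2, 4, 1, 7, 0, 6, 1, 4, 2, 7, 0, 4, 0, 1, 7, 2, 3, 6, 0, 3, 2, 3, 0, 7, 0, 5, 3, 5, 7, 4, 3, 4, 2, 0, 5, 0, 6, 5, 4, 3, 7, 1, 6, 2, 4, 3, 4, 2, 0, 4, 1, 0, 4, 0, 2, 4, 3, 4, 2, 7, 1, 6, 3, 4, 5, 7, 0, 5, 0, 2, 4, 3, 4, 6, 5, 3, 5, 0, 6, 0, 3, 2, 3, 0, 7, 3, 2, 6, 1, 0, 4, 0, 6, 2, 4, 1, 7, 0, 6, 1, 4, 2, 7, 0, 4, 0, 1, 7, 2, 3, 6, 0, 3, 2, 3, 0, 7, 0, 5, 3, 5, 7,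 4, 3, 4, 2, 0, 5, 0, 6, 5, 4, 3, 7, 1, 6, 2, 4, 3, 4, 2, 0, 4, 0, 1, 4, 0, 2, 4, 3, 4, 2, 7, 1, 6, 3, 4, 5, 7, 0, 5, 0, 2, 4, 3, 4, 6, 5, 3, 5, 0, 6, 0, 3, 2, 3, 0, 7, 3, 2, 6, 1, 0, 4, 0, 6, 2, 4, 1, 7, 0]]

/-- The four involutions of the subgroup. -/
def m11Words : List (List Nat) :=
  [[0],
   [6, 4, 0, 5, 0, 2, 5, 3, 7, 3, 1, 5, 6, 2, 1, 3, 2, 7, 3, 4, 3, 5, 0, 7, 2, 3, 0, 1, 0, 7, 1, 3, 2, 1, 4, 5, 7, 1, 4, 5, 7, 2, 3, 5, 2, 7, 2, 5, 3, 2, 6, 5, 4, 1, 6, 5, 4, 1, 2, 3, 1, 6, 0, 1, 0, 3, 2, 6, 0, 5, 3, 4, 3, 6, 2, 3, 1, 2, 7, 5, 1, 3, 6, 3, 5, 2, 0, 5, 0, 4, 7, 0, 6, 4, 0, 5, 0, 2, 5, 3, 7, 3, 1,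 5, 6, 2, 1, 3, 2, 7, 3, 4, 3, 5, 0, 7, 2, 3, 0, 1, 0, 7, 1, 3, 2, 1, 4, 5, 7, 1, 4, 5, 7, 2, 3, 5, 2, 7, 2, 5, 3, 2, 6, 5, 4, 1, 6, 5, 4, 1, 2, 3, 1, 6, 0, 1, 0, 3, 2, 6, 0, 5, 3, 4, 3, 6, 2, 3, 1, 2, 7, 5, 1, 3, 6, 3, 5, 2, 0, 5, 0, 4, 7, 0, 6, 4, 0, 5, 0, 2, 5, 3, 7, 3, 1, 5, 6, 2, 1, 3, 2, 7, 3, 4, 3, 5, 0, 7, 2, 3, 0, 1, 0, 7, 1, 3, 2, 1, 4, 5, 7, 1, 4, 5, 7, 2, 3, 5, 2, 6, 2, 5, 3, 2, 6, 5, 4, 1, 6, 5, 4, 1, 2, 3, 1, 6, 0, 1, 0, 3, 2, 6, 0, 5, 3, 4, 3, 6, 2, 3, 1, 2, 7, 5, 1, 3, 6, 3, 5, 2, 0, 5, 0, 4, 7, 0, 6, 4, 0, 5, 0, 2, 5, 3, 7, 3, 1, 5, 6, 2, 1, 3, 2, 7, 3, 4, 3, 5, 0, 7, 2, 3, 0, 1, 0, 7,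 1, 3, 2, 1, 4, 5, 7, 1, 4, 5, 7, 2, 3, 5, 2, 7, 2, 5, 3, 2, 6, 5, 4, 1, 6, 5, 4, 1, 2, 3, 1, 6, 0, 1, 0, 3, 2, 6, 0, 5, 3, 4, 3, 6, 2, 3, 1, 2, 7, 5, 1, 3, 6, 3, 5, 2, 0, 5, 0, 4, 7, 0, 6, 4, 0, 5, 0, 2, 5, 3, 7, 3, 1, 5, 6, 2, 1, 3, 2, 7, 3, 4, 3, 5, 0, 7, 2, 3, 0, 1, 0, 7, 1, 3, 2, 1, 4, 5, 7, 1, 4, 5, 7, 2, 3, 5, 2, 6, 2, 5, 3, 2, 6, 5, 4, 1, 6, 5, 4, 1, 2, 3, 1, 6, 0, 1, 0, 3, 2, 6, 0, 5, 3, 4, 3, 6, 2, 3, 1, 2, 7, 5, 1, 3, 6, 3, 5, 2, 0, 5, 0, 4, 7, 0, 6, 4, 0, 5, 0, 2, 5, 3, 7, 3, 1, 5, 6, 2, 1, 3, 2, 7, 3, 4, 3, 5, 0, 7, 2, 3, 0, 1, 0, 7, 1, 3, 2, 1, 4, 5, 7, 1, 4, 5, 7, 2, 3, 5, 2, 6, 2, 5, 3,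 2, 6, 5, 4, 1, 6, 5, 4, 1, 2, 3, 1, 6, 0, 1, 0, 3, 2, 6, 0, 5, 3, 4, 3, 6, 2, 3, 1, 2, 7, 5, 1, 3, 6, 3, 5, 2, 0, 5, 0, 4, 7],
   [0, 6, 4, 0, 5, 0, 2, 5, 3, 7, 3, 1, 5, 6, 2, 1, 3, 2, 7, 3, 4, 3, 5, 0, 7, 2, 3, 0, 1, 0, 7, 1, 3, 2, 1, 4, 5, 7, 1, 4, 5, 7, 2, 3, 5, 2, 6, 2, 5, 3, 2, 6, 5, 4, 1, 6, 5, 4, 1, 2, 3, 1, 6, 0, 1, 0, 3, 2, 6, 0, 5, 3, 4, 3, 6, 2, 3, 1, 2, 7, 5, 1, 3, 6, 3, 5, 2, 0, 5, 0, 4, 7, 0, 6, 4, 0, 5, 0, 2, 5, 3, 7, 3, 1, 5, 6, 2, 1, 3, 2, 7, 3, 4, 3, 5, 0, 7, 2, 3, 0, 1, 0, 7, 1, 3, 2, 1, 4, 5, 7, 1, 4, 5, 7, 2, 3, 5, 2, 6, 6, 2, 5, 3, 2, 6, 5, 4, 1, 6, 5, 4, 1, 2, 3, 1, 6, 0, 1, 0,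 3, 2, 6, 0, 5, 3, 4, 3, 6, 2, 3, 1, 2, 7, 5, 1, 3, 6, 3, 5, 2, 0, 5, 0, 4, 7, 0, 6, 4, 0, 5, 0, 2, 5, 3, 7, 3, 1, 5, 6, 2, 1, 3, 2, 7, 3, 4, 3, 5, 0, 7, 2, 3, 0, 1, 0, 7, 1, 3, 2, 1, 4, 5, 7, 1, 4, 5, 7, 2, 3, 5, 2, 6, 6, 2, 5, 3, 2, 6, 5, 4, 1, 6, 5, 4, 1, 2, 3, 1, 6, 0, 1, 0, 3, 2, 6, 0, 5, 3, 4, 3, 6, 2, 3, 1, 2, 7, 5, 1, 3, 6, 3, 5, 2, 0, 5, 0, 4, 7, 0, 6, 4, 0, 5, 0, 2, 5, 3, 7, 3, 1, 5, 6, 2, 1, 3, 2, 7, 3, 4, 3, 5, 0, 7, 2, 3, 0, 1, 0, 7, 1, 3, 2, 1, 4, 5, 7, 1, 4, 5, 7, 2, 3, 5, 2, 6, 2, 5, 3, 2, 6, 5, 4, 1, 6, 5, 4, 1, 2, 3, 1, 6, 0, 1, 0, 3, 2, 6, 0, 5, 3, 4, 3, 6, 2, 3, 1, 2, 7, 5, 1, 3, 6,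 3, 5, 2, 0, 5, 0, 4, 7, 0],
   [6, 4, 0, 5, 0, 2, 5, 3, 7, 3, 1, 5, 6, 2, 1, 3, 2, 7, 3, 4, 3, 5, 0, 7, 2, 3, 0, 1, 0, 7, 1, 3, 2, 1, 4, 5, 7, 1, 4, 5, 7, 2, 3, 5, 2, 6, 6, 2, 5, 3, 2, 6, 5, 4, 1, 6, 5, 4, 1, 2, 3, 1, 6, 0, 1, 0, 3, 2, 6, 0, 5, 3, 4, 3, 6, 2, 3, 1, 2, 7, 5, 1, 3, 6, 3, 5, 2, 0, 5, 0, 4, 7, 0, 6, 4, 0, 5, 0, 2, 5, 3, 7, 3, 1, 5, 6, 2, 1, 3, 2, 7, 3, 4, 3, 5, 0, 7, 2, 3, 0, 1, 0, 7, 1, 3, 2, 1, 4, 5, 7, 1, 4, 5, 7, 2, 3, 5, 2, 6, 6, 2, 5, 3, 2, 6, 5, 4, 1, 6, 5, 4, 1, 2, 3, 1, 6, 0, 1, 0, 3, 2, 6, 0, 5, 3, 4, 3, 6, 2, 3, 1, 2, 7, 5, 1, 3, 6, 3, 5, 2, 0, 5, 0, 4, 7]]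

end CfsgLib.Coset.ON
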