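import Cfsg.Agent.Coset.ON.Simplicity
import Cfsg.Agent.Coset.ON.SubWords
import Cfsg.Agent.Coset.J1.Order
import Cfsg.Agent.Coset.M11.Order

/-! Subgroups J₁ and M₁₁ of `Cfsg.Spor.ON`, and its action on 122760 points. -/

set_option autoImplicit false
set_option maxRecDepth 100000
set_option Elab.async false

namespace CfsgLib.Coset.ON

/-- Substitute words for letters. -/
def substW (ws : List (List Nat)) (w : List Nat) : List Nat :=
  (w.map fun l => ws.getD l []).flatten

theorem ev_substW {X : Type*} [Group X] (L : List X) (ws : List (List Nat)) (w : List Nat) :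
    ev (ws.map (ev L)) w = ev L (substW ws w) := by
  induction w with
  | nil => simp [substW]
  | cons l w ih =>
    rw [ev_cons, ih, substW, substW, List.map_cons, List.flatten_cons, ev_append]
    congr 1
    rw [fl, ← ev_nil L, List.getD_map]

/-- All relators evaluate to the identity at the substituted words. -/
noncomputable def checkSubst (ws rels : List (List Nat)) : Bool :=
  allList (fun w => cond (checkLetters 8 [substW ws w])
    (allList (fun b => Nat.beq (follow (tget Top.Tb) b (substW ws w)) b) (base.map Fin.val)) false) rels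

theorem ev_subst_eq_one {ws rels : List (List Nat)} (h : checkSubst ws rels = true) :
    ∀ w ∈ rels, ev (ws.map (ev Lg)) w = 1 := by
  intro w hw
  have h' := allList_iff.mp h w hw
  rw [cond_false_eq_true] at h'
  rw [ev_substW, ← ev_nil Lg]
  refine matches_ρ.ev_eq_of_base card_H.2 (len_Lg.symm ▸ h'.1) rfl ?_
  simpa only [follow_nil] using h'.2

theorem j1_check : checkSubst j1Words J1.rels = true := by decide +kernel

theorem m11_check : checkSubst m11Words M11.rels = true := by decide +kernel

/-- A word moving a base point gives a nontrivial element. -/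
theorem ev_ne_one {w : List Nat} (hl : checkLetters 8 [w] = true)
    (h : Nat.beq (follow (tget Top.Tb) 0 w) 0 = false) : ev Lg w ≠ 1 := by
  intro he
  have h0 : ev Lg w ∈ pstab ρ (⟨0, by decide⟩ : Fin 122760) := he ▸ one_mem _
  have := (matches_ρ.mem_pstab_iff _ (letters_lt (k := Lg.length) (by rw [len_Lg]; exact hl) w
    (by simp))).mp h0
  rw [show ((⟨0, by decide⟩ : Fin 122760) : Nat) = 0 from rfl] at this
  rw [this] at h
  exact Bool.noConfusion h

/-- A nontrivial image of a simple presented group. -/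
theorem image_of_simple {k : Nat} {rels ws : List (List Nat)} (hk : ws.length = k)
    [IsSimpleGroup (NumGr k rels)] (hc : checkSubst ws rels = true) {l : Nat}
    (hl : checkLetters 8 [ws.getD l []] = true)
    (h : Nat.beq (follow (tget Top.Tb) 0 (ws.getD l [])) 0 = false) :
    ∃ K : Subgroup Cfsg.Spor.ON, Nonempty (NumGr k rels ≃* K) := by
  let f : NumGr k rels →* Cfsg.Spor.ON :=
    numHom (L := ws.map (ev Lg)) (by simpa using hk) (ev_subst_eq_one hc)
  refine ⟨f.range, ⟨MonoidHom.ofInjective (?_ : Function.Injective f)⟩⟩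
  rcases Subgroup.Normal.eq_bot_or_eq_top f.normal_ker with hb | ht
  · exact (MonoidHom.ker_eq_bot_iff f).mp hb
  · refine absurd ?_ (ev_ne_one hl h)
    have he : f (fl (numGens k rels) l) = 1 := MonoidHom.mem_ker.mp (ht ▸ Subgroup.mem_top _)
    rw [numHom_fl, fl, ← ev_nil Lg, List.getD_map] at he
    simpa using he

theorem exists_J1 : ∃ K : Subgroup Cfsg.Spor.ON, Cfsg.IsJ1 K := by
  have := J1.isSimple
  obtain ⟨K, ⟨e⟩⟩ := image_of_simple (k := 4) (l := 1) (rels := J1.rels) (ws := j1Words) rfl j1_check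
    (by decide +kernel) (by decide +kernel)
  exact ⟨K, e.isSimpleGroup_congr.mp J1.isSimple,
    (Nat.card_congr e.toEquiv).symm.trans J1.card_and_injective.1⟩

theorem exists_M11 : ∃ K : Subgroup Cfsg.Spor.ON, Cfsg.IsM11 K := by
  have := M11.isSimple
  obtain ⟨K, ⟨e⟩⟩ := image_of_simple (k := 4) (l := 1) (rels := M11.rels) (ws := m11Words) rfl
    m11_check (by decide +kernel) (by decide +kernel)
  exact ⟨K, e.isSimpleGroup_congr.mp M11.isSimple,
    (Nat.card_congr e.toEquiv).symm.trans M11.card_and_injective.1⟩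

theorem permutation_realization : ∃ P : Subgroup (Equiv.Perm (Fin 122760)), Cfsg.IsON P ∧
    MulAction.IsPretransitive P (Fin 122760) ∧
    Nat.card (MulAction.stabilizer P (0 : Fin 122760)) = 3753792 ∧
    (∃ K : Subgroup P, Cfsg.IsJ1 K) ∧ ∃ K : Subgroup P, Cfsg.IsM11 K := by
  let e : Cfsg.Spor.ON ≃* ρ.range := MonoidHom.ofInjective ρ_injective
  have htr : MulAction.IsPretransitive ρ.range (Fin 122760) := ⟨fun a b => by
    obtain ⟨g, hg⟩ := transitive a
    obtain ⟨g', hg'⟩ := transitive b
    refine ⟨⟨ρ (g' * g⁻¹), ⟨_, rfl⟩⟩, ?_⟩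
    show ρ (g' * g⁻¹) a = b
    rw [← hg, map_mul, map_inv, Equiv.Perm.mul_apply, Equiv.Perm.inv_def,
      Equiv.symm_apply_apply, hg']⟩
  have hc : Nat.card ρ.range = 460815505920 := by
    rw [← Nat.card_congr e.toEquiv, card_ON.2]
  have hsub : ∀ K : Subgroup Cfsg.Spor.ON, Nonempty (K ≃* K.map e.toMonoidHom) := fun K =>
    ⟨K.equivMapOfInjective _ e.injective⟩
  refine ⟨ρ.range, ⟨e.isSimpleGroup_congr.mp isSimple, hc⟩, htr, ?_, ?_, ?_⟩
  · have h := Subgroup.card_mul_index (MulAction.stabilizer ρ.range (0 : Fin 122760))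
    rw [MulAction.index_stabilizer_of_transitive, Nat.card_fin, hc] at h
    exact Nat.eq_of_mul_eq_mul_right (by norm_num : 0 < 122760) (h.trans (by norm_num))
  · obtain ⟨K, hK⟩ := exists_J1
    obtain ⟨d⟩ := hsub K
    exact ⟨_, d.isSimpleGroup_congr.mp hK.1, (Nat.card_congr d.toEquiv).symm.trans hK.2⟩
  · obtain ⟨K, hK⟩ := exists_M11
    obtain ⟨d⟩ := hsub K
    exact ⟨_, d.isSimpleGroup_congr.mp hK.1, (Nat.card_congr d.toEquiv).symm.trans hK.2⟩

end CfsgLib.Coset.ON
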